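import Groth.Agent.Lib.PicTors6.Roots
import Groth.Agent.Lib.Cube.Pic

/-!
# Torsion classes lift along thickenings
-/

set_option autoImplicit false
set_option linter.style.haveILetI false
set_option backward.isDefEq.respectTransparency false

universe u

open CategoryTheory AlgebraicGeometry TopologicalSpace
open GrothLib.Ample

noncomputable section

namespace GrothLib.PicTors6

variable {X X' : Scheme.{u}}

/-- The cocycle of powers. -/
def powC (c : Cocycle X) (n : ℕ) : Cocycle X where
  ι := c.ι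
  D := c.D
  g i k := c.g i k ^ n
  cover := c.cover
  self i W h := by rw [map_pow, c.self i W h, one_pow]
  change i j k W hi hj hk := by rw [map_pow, map_pow, map_pow, c.change i j k W hi hj hk, mul_pow]

theorem powC_G (c : Cocycle X) (n : ℕ) (i k : c.ι) {O : X.Opens} (hi : O ≤ c.D i) (hk : O ≤ c.D k) :
    (powC c n).G i k hi hk = c.G i k hi hk ^ n := map_pow _ _ n

theorem cls_powC (c : Cocycle X) (n : ℕ) : Cube.cls (powC c n) = Cube.cls c ^ n := by
  induction n with
  | zero =>
    rw [pow_zero]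
    refine Quotient.sound (Cube.eqv_of_map (c := powC c 0) (c' := Cocycle.triv X) (fun _ => PUnit.unit)
      (fun _ => le_top) (fun _ => 1) (fun _ => isUnit_one) fun p q O hp hq => ?_)
    rw [Cube.triv_G, powC_G, pow_zero, map_one, map_one]
  | succ n ih =>
    rw [pow_succ, ← ih, ← Cube.cls_prod]
    refine Quotient.sound (Cube.eqv_of_map (c := powC c (n + 1)) (c' := (powC c n).prod c) (fun p => (p, p))
      (fun _ => le_inf le_rfl le_rfl) (fun _ => 1) (fun _ => isUnit_one) fun p q O hp hq => ?_)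
    rw [map_one, map_one, one_mul, mul_one, Cocycle.prod_G, powC_G, powC_G, pow_succ]

theorem exists_units_of_pow_eq_one (d : Cocycle X) (n : ℕ) (h : Cube.cls d ^ n = 1) :
    ∃ l : ∀ k, Γ(X, d.D k), (∀ k, IsUnit (l k)) ∧ ∀ (i k : d.ι) (W : X.Opens) (hi : W ≤ d.D i) (hk : W ≤ d.D k),
      d.G i k hi hk ^ n * res hk (l k) = res hi (l i) := by
  rw [← cls_powC, Cube.cls_eq_one_iff] at h
  obtain ⟨a, ha⟩ := h
  refine ⟨fun k => res (le_inf le_top le_rfl) (a.1 k), fun k => ?_, fun i k W hi hk => ?_⟩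
  · refine IsUnit.map (res (le_inf le_top le_rfl)) ?_
    refine X.toRingedSpace.isUnit_of_isUnit_germ _ (a.1 k) fun x hx => ?_
    refine (X.toRingedSpace.mem_basicOpen (a.1 k) x hx).1 ?_
    show x ∈ X.basicOpen (a.1 k)
    rw [← (powC d n).locus_inf_D a k, ha]
    exact hx
  · have e := (powC d n).sect_spec a i k (W := W) (le_inf le_top hi) (le_inf le_top hk)
    rw [pow_one, powC_G] at e
    rw [res_res, res_res]
    exact e.symm

variable (i : X ⟶ X') [IsClosedImmersion i] [Surjective i]

theorem exists_lift_unit {O : X'.Opens} (hO : IsAffineOpen O) {g : Γ(X, i ⁻¹ᵁ O)} (hg : IsUnit g) :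
    ∃ L : Γ(X', O), IsUnit L ∧ (i.app O).hom L = g := by
  obtain ⟨L, hL⟩ := i.app_surjective O hO g
  exact ⟨L, isUnit_of_app i (by rw [hL]; exact hg), hL⟩

theorem exists_index (d : Cocycle X) (x : X') :
    ∃ p : X'.Opens × d.ι, IsAffineOpen p.1 ∧ i ⁻¹ᵁ p.1 ≤ d.D p.2 ∧ x ∈ p.1 := by
  obtain ⟨z, rfl⟩ := i.surjective x
  obtain ⟨k, hk⟩ := d.exists_mem z
  obtain ⟨V, hVo, hV⟩ := i.isClosedEmbedding.isInducing.isOpen_iff.1 (d.D k).isOpen
  obtain ⟨_, ⟨O, hO, rfl⟩, hxO, hOV⟩ := X'.isBasis_affineOpens.exists_subset_of_mem_open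
    (show i z ∈ V from (show z ∈ i ⁻¹' V from hV.ge hk)) hVo
  exact ⟨(O, k), hO, fun w hw => hV.le (hOV hw), hxO⟩

/-- Torsion classes prime to the residue characteristics lift along thickenings. -/
theorem exists_lift {n : ℕ} (hn : IsUnit (n : Γ(X, ⊤))) (p : Cube.Pic X) (hp : p ^ n = 1) :
    ∃ q : Cube.Pic X', q ^ n = 1 ∧ Cube.pull i q = p := by
  obtain ⟨d⟩ := p
  obtain ⟨l, hl, hll⟩ := exists_units_of_pow_eq_one d n hp
  let κ : Type u := {p : X'.Opens × d.ι // IsAffineOpen p.1 ∧ i ⁻¹ᵁ p.1 ≤ d.D p.2}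
  choose L hL hL' using fun a : κ => exists_lift_unit i a.2.1 ((hl a.1.2).map (res a.2.2))
  choose h hh hh' using fun a b : κ => exists_root i hn
    (L := res (inf_le_left : a.1.1 ⊓ b.1.1 ≤ a.1.1) (L a))
    ((hL b).map (res (inf_le_right : a.1.1 ⊓ b.1.1 ≤ b.1.1)))
    (d.isUnit_G a.1.2 b.1.2 (W := i ⁻¹ᵁ (a.1.1 ⊓ b.1.1)) ((i.preimage_mono inf_le_left).trans a.2.2)
      ((i.preimage_mono inf_le_right).trans b.2.2))
    (by rw [app_res, app_res, hL', hL', res_res, res_res]; exact hll _ _ _ _ _)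
  have hu : ∀ a b : κ, IsUnit (h a b) := fun a b => isUnit_of_app i (by rw [hh']; exact d.isUnit_G _ _ _ _)
  let Q : Cocycle X' :=
    { ι := κ
      D := fun a => a.1.1
      g := h
      cover := top_le_iff.1 fun x _ => by
        obtain ⟨p, hp₁, hp₂, hx⟩ := exists_index i d x
        exact Opens.mem_iSup.2 ⟨⟨p, hp₁, hp₂⟩, hx⟩
      self := fun a W hW => by
        refine root_unique i hn (L := res hW (L a)) (M := res hW (L a)) ((hL a).map _) ?_
          (by rw [one_pow, one_mul]) ((hu a a).map _) ?_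
        · have e := congrArg (res (le_inf hW hW)) (hh a a)
          simp only [map_mul, map_pow, res_res] at e; exact e
        · rw [app_res, hh', d.res_G, map_one, d.G_self]
      change := fun a b c W ha hb hc => by
        refine root_unique i hn (L := res ha (L a)) (M := res hc (L c)) ((hL c).map _) ?_ ?_ ((hu a c).map _) ?_
        · have e := congrArg (res (le_inf ha hc)) (hh a c)
          simp only [map_mul, map_pow, res_res] at e; exact e
        · have e₁ := congrArg (res (le_inf ha hb)) (hh a b)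
          have e₂ := congrArg (res (le_inf hb hc)) (hh b c)
          simp only [map_mul, map_pow, res_res] at e₁ e₂
          rw [mul_pow, mul_assoc, e₂, e₁]
        · rw [map_mul, app_res, app_res, app_res, hh', hh', hh', d.res_G, d.res_G, d.res_G]
          exact d.G_trans _ _ _ _ _ _ }
  refine ⟨Cube.cls Q, ?_, ?_⟩
  · rw [← cls_powC, Cube.cls_eq_one_iff]
    refine ⟨⟨fun (a : κ) => res inf_le_right (L a), fun (a b : κ) W ha hb => ?_⟩,
      (powC Q n).locus_eq_top_of_isUnit _ fun a => (hL a).map _⟩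
    rw [pow_one, powC_G, res_res, res_res]
    have e := congrArg (res (le_inf (ha.trans inf_le_right) (hb.trans inf_le_right))) (hh a b)
    simp only [map_mul, map_pow] at e
    exact ((res_res _ _ _).symm.trans e.symm).trans (congrArg _ (res_res _ _ _))
  · rw [Cube.pull_cls]
    refine Quotient.sound (Cube.eqv_of_map (c := Q.comap i) (c' := d) (fun a => a.1.2) (fun a => a.2.2) (fun _ => 1)
      (fun _ => isUnit_one) fun a b W ha hb => ?_)
    rw [map_one, map_one, one_mul, mul_one, Cocycle.comap_G]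
    show _ = (i.appLE _ W _).hom (h a b)
    rw [Scheme.Hom.appLE, CommRingCat.comp_apply, show (i.app _).hom (h a b) = _ from hh' a b]
    exact (d.res_G _ _ _ _ _).symm

/-- Torsion invertible modules lift along thickenings. -/
theorem exists_lift_module {n : ℕ} (hn : IsUnit (n : Γ(X, ⊤))) {L : X.Modules} (hL : PicF.IsInvertible L)
    (e : Nonempty (CohB1.tensorPow L n ≅ Coh.structureModule X)) :
    ∃ M : X'.Modules, PicF.IsInvertible M ∧ Nonempty (CohB1.tensorPow M n ≅ Coh.structureModule X') ∧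
      Nonempty ((Scheme.Modules.pullback i).obj M ≅ L) := by
  have hp : Cube.clsMod hL ^ n = 1 := by
    rw [← Cube.clsMod_tensorPow, Cube.clsMod_eq_one_iff]
    exact e
  obtain ⟨⟨c⟩, hq, hpull⟩ := exists_lift i hn _ hp
  have hM := c.isInvertible_twist 1
  have hc : Cube.clsMod hM = Cube.cls c := Cube.clsMod_eq hM (Iso.refl _)
  refine ⟨c.twist 1, hM, ?_, ?_⟩
  · rw [← Cube.clsMod_eq_one_iff (isInvertible_tensorPow hM n), Cube.clsMod_tensorPow hM, hc]
    exact hq
  · rw [← Cube.clsMod_eq_iff (isInvertible_pullback i hM) hL, Cube.clsMod_pullback i hM, hc]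
    exact hpull

end GrothLib.PicTors6
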