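import Mathlib.AlgebraicGeometry.Morphisms.ClosedImmersion
import Mathlib.AlgebraicGeometry.Morphisms.QuasiCompact
import Mathlib.AlgebraicGeometry.Morphisms.UnderlyingMap
import Mathlib.Dynamics.Newton
import Groth.Agent.Lib.Ample.Cocycle

/-!
# Roots of units along surjective closed immersions
-/

set_option autoImplicit false
set_option linter.style.haveILetI false

universe u

open CategoryTheory AlgebraicGeometry Opposite TopologicalSpace
open GrothLib.Ample (res res_res res_self)

namespace GrothLib.PicTors6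

/-- Two `n`-th roots of a unit which differ by a nilpotent are equal when `n` is invertible. -/
theorem eq_of_pow_eq_of_isNilpotent {R : Type*} [CommRing R] {n : ℕ} (hn : IsUnit (n : R)) {a b : R}
    (hb : IsUnit b) (h : a ^ n = b ^ n) (hab : IsNilpotent (b - a)) : a = b := by
  let P : Polynomial R := Polynomial.X ^ n - Polynomial.C (b ^ n)
  have h0 : ∀ r : R, r ^ n = b ^ n → Polynomial.aeval r P = 0 := fun r hr => by simp [P, hr]
  have hd : IsUnit (Polynomial.aeval b (Polynomial.derivative P)) := by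
    rw [show P = _ from rfl, Polynomial.derivative_sub, Polynomial.derivative_C, sub_zero,
      Polynomial.derivative_X_pow, map_mul, map_pow, Polynomial.aeval_X, Polynomial.aeval_C]
    exact (show IsUnit (algebraMap R R (n : R)) by simpa using hn).mul (hb.pow _)
  obtain ⟨r, -, huniq⟩ := Polynomial.existsUnique_nilpotent_sub_and_aeval_eq_zero
    (P := P) (x := b) (by rw [h0 b rfl]; exact IsNilpotent.zero) hd
  exact (huniq a ⟨hab, h0 a h⟩).trans (huniq b ⟨by rw [sub_self]; exact IsNilpotent.zero, h0 b rfl⟩).symm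

variable {X X' : Scheme.{u}} (i : X ⟶ X')

theorem app_res {U W : X'.Opens} (h : W ≤ U) (s : Γ(X', U)) :
    (i.app W).hom (res h s) = res (i.preimage_mono h) ((i.app U).hom s) :=
  congrArg (fun φ => φ.hom s) (i.naturality (homOfLE h).op)

theorem isUnit_of_app [Surjective i] {U : X'.Opens} {s : Γ(X', U)} (h : IsUnit ((i.app U).hom s)) : IsUnit s := by
  refine X'.toRingedSpace.isUnit_of_isUnit_germ _ s fun x hx => ?_
  refine (X'.toRingedSpace.mem_basicOpen s x hx).1 ?_
  obtain ⟨z, rfl⟩ := i.surjective x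
  have h1 : i ⁻¹ᵁ X'.basicOpen s = i ⁻¹ᵁ U := by
    rw [Scheme.preimage_basicOpen, Scheme.basicOpen_of_isUnit _ h]
  exact h1.ge hx

theorem isNilpotent_of_app_eq_zero [Surjective i] {U : X'.Opens} (hU : IsAffineOpen U) {s : Γ(X', U)}
    (h : (i.app U).hom s = 0) : IsNilpotent s := by
  rw [Scheme.isNilpotent_iff_basicOpen_eq_bot_of_isCompact hU.isCompact]
  ext x
  simp only [Opens.coe_bot, Set.mem_empty_iff_false, iff_false, SetLike.mem_coe]
  intro hx
  obtain ⟨z, rfl⟩ := i.surjective x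
  have h1 : z ∈ i ⁻¹ᵁ X'.basicOpen s := hx
  rw [Scheme.preimage_basicOpen, h, Scheme.basicOpen_zero] at h1
  exact h1

variable {n : ℕ}

theorem isUnit_natCast (hn : IsUnit (n : Γ(X, ⊤))) (U : X.Opens) : IsUnit (n : Γ(X, U)) := by
  have := hn.map (res (le_top : U ≤ ⊤))
  rwa [map_natCast] at this

/-- Lifts of an `n`-th root are unique. -/
theorem root_unique [Surjective i] (hn : IsUnit (n : Γ(X, ⊤))) {W : X'.Opens} {L M : Γ(X', W)} (hM : IsUnit M)
    {a b : Γ(X', W)} (ha : a ^ n * M = L) (hb : b ^ n * M = L) (hau : IsUnit a)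
    (h : (i.app W).hom a = (i.app W).hom b) : a = b := by
  have h1 : a ^ n = b ^ n := hM.mul_left_injective (ha.trans hb.symm)
  have h2 := geom_sum₂_mul a b n
  rw [h1, sub_self] at h2
  have hu : IsUnit (∑ j ∈ Finset.range n, a ^ j * b ^ (n - 1 - j)) := by
    refine isUnit_of_app i ?_
    rw [map_sum, Finset.sum_congr rfl fun j hj => ?_]
    · rw [Finset.sum_const, Finset.card_range, nsmul_eq_mul]
      exact (isUnit_natCast hn _).mul ((hau.map (i.app W).hom).pow (n - 1))
    · rw [map_mul, map_pow, map_pow, ← h, ← pow_add]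
      congr 1
      have := Finset.mem_range.1 hj
      omega
  exact sub_eq_zero.1 (hu.mul_right_eq_zero.1 h2)

/-- On an affine open an `n`-th root lifts. -/
theorem exists_root_affine [IsClosedImmersion i] [Surjective i] (hn : IsUnit (n : Γ(X, ⊤)))
    {W : X'.Opens} (hW : IsAffineOpen W) {L M : Γ(X', W)} (hM : IsUnit M) {g : Γ(X, i ⁻¹ᵁ W)} (hg : IsUnit g)
    (hgn : g ^ n * (i.app W).hom M = (i.app W).hom L) :
    ∃ h : Γ(X', W), h ^ n * M = L ∧ (i.app W).hom h = g := by
  obtain ⟨x, rfl⟩ := i.app_surjective W hW g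
  obtain ⟨M, rfl⟩ := hM
  let c : Γ(X', W) := L * ↑M⁻¹
  let P : Polynomial Γ(X', W) := Polynomial.X ^ n - Polynomial.C c
  have hx : IsUnit x := isUnit_of_app i hg
  have hnil : IsNilpotent (Polynomial.aeval x P) := by
    refine isNilpotent_of_app_eq_zero i hW ?_
    have e : Polynomial.aeval x P = x ^ n - c := by simp [P]
    rw [e, map_sub, map_pow, map_mul, ← hgn, mul_assoc, ← map_mul, Units.mul_inv, map_one, mul_one, sub_self]
  have hnW : IsUnit (n : Γ(X', W)) := isUnit_of_app i (by rw [map_natCast]; exact isUnit_natCast hn _)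
  have hd : IsUnit (Polynomial.aeval x (Polynomial.derivative P)) := by
    simp [P, Polynomial.derivative_X_pow]
    exact ⟨hnW, hx.pow _⟩
  obtain ⟨r, ⟨hr, hr0⟩, -⟩ := Polynomial.existsUnique_nilpotent_sub_and_aeval_eq_zero hnil hd
  have hrn : r ^ n = c := sub_eq_zero.1 (by simpa [P] using hr0)
  refine ⟨r, by rw [hrn, mul_assoc, Units.inv_mul, mul_one], ?_⟩
  refine eq_of_pow_eq_of_isNilpotent (isUnit_natCast hn _) hg ?_ ?_
  · rw [← map_pow, hrn, map_mul, ← hgn, mul_assoc, ← map_mul, Units.mul_inv, map_one, mul_one]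
  · rw [← map_sub]
    exact hr.map (i.app W).hom

/-- An `n`-th root lifts uniquely along a surjective closed immersion. -/
theorem exists_root [IsClosedImmersion i] [Surjective i] (hn : IsUnit (n : Γ(X, ⊤)))
    {W : X'.Opens} {L M : Γ(X', W)} (hM : IsUnit M) {g : Γ(X, i ⁻¹ᵁ W)} (hg : IsUnit g)
    (hgn : g ^ n * (i.app W).hom M = (i.app W).hom L) :
    ∃ h : Γ(X', W), h ^ n * M = L ∧ (i.app W).hom h = g := by
  let κ := {O : X'.Opens // IsAffineOpen O ∧ O ≤ W}
  have hcov : W ≤ ⨆ O : κ, O.1 := fun x hx => by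
    obtain ⟨_, ⟨O, hO, rfl⟩, hxO, hOW⟩ := X'.isBasis_affineOpens.exists_subset_of_mem_open hx W.2
    exact Opens.mem_iSup.2 ⟨⟨O, hO, hOW⟩, hxO⟩
  choose r hr hr' using fun O : κ => exists_root_affine i hn O.2.1 (hM.map (res O.2.2))
    (L := res O.2.2 L) (hg.map (res (i.preimage_mono O.2.2)))
    (by rw [app_res, app_res, ← map_pow, ← map_mul, hgn])
  have hcompat : ∀ O O' : κ, res (inf_le_left : O.1 ⊓ O'.1 ≤ O.1) (r O) = res (inf_le_right : O.1 ⊓ O'.1 ≤ O'.1) (r O') := by
    intro O O'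
    refine root_unique i hn (L := res (inf_le_left.trans O.2.2) L) (M := res (inf_le_left.trans O.2.2) M)
      (hM.map _) ?_ ?_ ((isUnit_of_app i (by rw [hr' O]; exact hg.map _)).map _) ?_
    · have := congrArg (res (inf_le_left : O.1 ⊓ O'.1 ≤ O.1)) (hr O)
      rwa [map_mul, map_pow, res_res, res_res] at this
    · have := congrArg (res (inf_le_right : O.1 ⊓ O'.1 ≤ O'.1)) (hr O')
      rwa [map_mul, map_pow, res_res, res_res] at this
    · rw [app_res, app_res, hr', hr', res_res, res_res]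
  obtain ⟨(h : Γ(X', W)), hh, -⟩ := X'.sheaf.existsUnique_gluing' (fun O : κ => O.1) W (fun O => homOfLE O.2.2) hcov r
    hcompat
  refine ⟨h, ?_, ?_⟩
  · refine X'.sheaf.eq_of_locally_eq' (fun O : κ => O.1) W (fun O => homOfLE O.2.2) hcov _ _ fun O => ?_
    show res O.2.2 (h ^ n * M) = res O.2.2 L
    rw [map_mul, map_pow, show res O.2.2 h = r O from hh O, hr O]
  · refine X.sheaf.eq_of_locally_eq' (fun O : κ => i ⁻¹ᵁ O.1) (i ⁻¹ᵁ W) (fun O => homOfLE (i.preimage_mono O.2.2))
      (fun x hx => by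
        obtain ⟨O, hO⟩ := Opens.mem_iSup.1 (hcov (show i x ∈ W from hx))
        exact Opens.mem_iSup.2 ⟨O, hO⟩) _ _ fun O => ?_
    show res (i.preimage_mono O.2.2) ((i.app W).hom h) = res (i.preimage_mono O.2.2) g
    rw [← app_res, show res O.2.2 h = r O from hh O, hr' O]
    exact O.2.2

end GrothLib.PicTors6
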